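import Groth.Agent.PCNoncomm7.Resolve
import Groth.Agent.CAlgOdd.PCResolve
import Groth.Agent.S2066

/-!
# Pseudo-coherence over a finite free algebra, from pseudo-coherence over the base
-/

set_option autoImplicit false
set_option linter.style.haveILetI false
set_option backward.isDefEq.respectTransparency false
set_option backward.isDefEq.respectTransparency.types false

universe u

open CategoryTheory CategoryTheory.Limits CochainComplex

attribute [local instance] HasDerivedCategory.standard

noncomputable section

namespace Groth.Agent.PCNoncomm7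
open Groth.Agent

variable {A : Type u} [CommRing A] {R : Type u} [Ring R] [Algebra A R]

variable (A R) in
/-- Restriction of scalars. -/
abbrev resF : ModuleCat.{u} R ⥤ ModuleCat.{u} A := ModuleCat.restrictScalars.{u} (algebraMap A R)

variable (M : ModuleCat.{u} R)

theorem finite_free_res [Module.Finite A R] [Module.Free A R] (h : Module.Finite R M ∧ Module.Free R M) :
    Module.Finite A ((resF A R).obj M) ∧ Module.Free A ((resF A R).obj M) := by
  letI : Module A M := Module.compHom M (algebraMap A R)
  haveI : IsScalarTower A R M := ⟨fun a r m => by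
    show (a • r) • m = algebraMap A R a • r • m
    rw [Algebra.smul_def, mul_smul]⟩
  haveI := h.1
  haveI := h.2
  exact ⟨Module.Finite.trans (R := A) R M, Module.Free.trans (R := A) (S := R) (M := M)⟩

theorem finite_of_finite_res (h : Module.Finite A ((resF A R).obj M)) : Module.Finite R M := by
  letI : Module A M := Module.compHom M (algebraMap A R)
  haveI : IsScalarTower A R M := ⟨fun a r m => by
    show (a • r) • m = algebraMap A R a • r • m
    rw [Algebra.smul_def, mul_smul]⟩
  haveI : Module.Finite A M := h
  exact Module.Finite.of_restrictScalars_finite A R M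

variable [PreservesFiniteLimits (resF A R)] [PreservesFiniteColimits (resF A R)]

theorem finite_homology_cone [Module.Finite A R] [Module.Free A R] {F : CochainComplex (ModuleCat.{u} R) ℤ}
    {b n n' : ℤ} (hn' : n' + 1 = n) (s : Stage F b n)
    (hF : ∀ m, DRing.IsPseudoCoherent A m (DRing.toD (((resF A R).mapHomologicalComplex (ComplexShape.up ℤ)).obj F))) :
    Module.Finite R ((mappingCone s.α).homology n') := by
  refine finite_of_finite_res (A := A) _ ?_
  let G := (resF A R).mapHomologicalComplex (ComplexShape.up ℤ)
  let eC := mappingCone.mapHomologicalComplexIso s.α (resF A R)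
  let T := DerivedCategory.Q.mapTriangle.obj (mappingCone.triangle (G.map s.α))
  have hT : T ∈ Pretriangulated.distinguishedTriangles :=
    DerivedCategory.mappingCone_triangle_distinguished (G.map s.α)
  have hE : DRing.IsPseudoCoherent A (n' + 1) T.obj₁ :=
    ⟨G.obj s.E, n, b, 𝟙 _, fun i hi => (resF A R).map_isZero (hi.elim (s.below i) (s.above i)),
      fun i => finite_free_res _ (s.free i),
      fun i _ => inferInstanceAs (IsIso ((DerivedCategory.homologyFunctor _ i).map (𝟙 _))),
      inferInstanceAs (Epi ((DerivedCategory.homologyFunctor _ _).map (𝟙 _)))⟩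
  have hC := (Groth.Agent.S2068.result T.obj₃ n' ((Groth.Agent.S2067.result T hT n').1 hE (hF n'))).1
    fun i hi => by
      refine IsZero.of_iso ?_ ((DerivedCategory.homologyFunctorFactors _ i).app _)
      refine IsZero.of_iso ?_ ((HomologicalComplex.homologyFunctor _ _ i).mapIso eC).symm
      exact ((resF A R).map_isZero (s.exact i (by omega)).isZero_homology).of_iso
        (ShortComplex.mapHomologyIso ((mappingCone s.α).sc i) (resF A R))
  exact (Module.Finite.equiv_iff (((DerivedCategory.homologyFunctorFactors _ n').app _) ≪≫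
    ((HomologicalComplex.homologyFunctor _ _ n').mapIso eC).symm ≪≫
    ShortComplex.mapHomologyIso ((mappingCone s.α).sc n') (resF A R)).toLinearEquiv).1 hC

theorem main [Module.Finite A R] [Module.Free A R] (M : DerivedCategory (ModuleCat.{u} R))
    (hM : DRing.IsPseudoCoherent' A (((resF A R).mapDerivedCategory).obj M)) :
    ∃ (F : CochainComplex (ModuleCat.{u} R) ℤ) (b : ℤ), (∀ i : ℤ, b < i → IsZero (F.X i)) ∧
      (∀ i : ℤ, Module.Finite R (F.X i) ∧ Module.Free R (F.X i)) ∧ Nonempty (DerivedCategory.Q.obj F ≅ M) := by
  obtain ⟨P, b, hb, hP, ⟨eP⟩⟩ := hM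
  let F := DerivedCategory.Q.objPreimage M
  let eF : DerivedCategory.Q.obj F ≅ M := DerivedCategory.Q.objObjPreimageIso M
  let G := (resF A R).mapHomologicalComplex (ComplexShape.up ℤ)
  let e : DRing.toD P ≅ DRing.toD (G.obj F) :=
    eP ≪≫ (resF A R).mapDerivedCategory.mapIso eF.symm ≪≫ (resF A R).mapDerivedCategoryFactors.app F
  have hpc : ∀ m, DRing.IsPseudoCoherent A m (DRing.toD (G.obj F)) :=
    (Groth.Agent.S2066.result _).1.2 ⟨P, b, hb, hP, ⟨e⟩⟩
  have hFb : ∀ i, b < i → F.ExactAt i := fun i hi => by
    have h : IsZero ((G.obj F).homology i) :=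
      (ShortComplex.isZero_homology_of_isZero_X₂ (P.sc i) (hb i hi)).of_iso
        (((DerivedCategory.homologyFunctorFactors _ i).app (G.obj F)).symm ≪≫
          (DerivedCategory.homologyFunctor _ i).mapIso e.symm ≪≫
          (DerivedCategory.homologyFunctorFactors _ i).app P)
    rw [← HomologicalComplex.exactAt_iff_isZero_homology, HomologicalComplex.exactAt_iff] at h
    rw [HomologicalComplex.exactAt_iff]
    exact ((F.sc i).exact_map_iff_of_faithful (resF A R)).1 h
  obtain ⟨E, α, hE, hfree, hα⟩ := exists_resolution b hFb fun n n' hn' s => finite_homology_cone hn' s hpc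
  haveI : IsIso (DerivedCategory.Q.map α) := (DerivedCategory.isIso_Q_map_iff_quasiIso _ _).2 hα
  exact ⟨E, b, hE, hfree, ⟨asIso (DerivedCategory.Q.map α) ≪≫ eF⟩⟩

end Groth.Agent.PCNoncomm7

end
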