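import Groth.Agent.KFlatLib.Perfect.Retract
import Groth.Prelude.Def_DRing2
import Mathlib.CategoryTheory.Limits.Constructions.EventuallyConstant
import Mathlib.CategoryTheory.Functor.OfSequence
import Mathlib.Algebra.Homology.HomologicalComplexLimits

/-!
# Bounded above resolutions by finite free modules over a ring, not necessarily commutative
-/

set_option linter.style.haveILetI false

universe u

open CategoryTheory CategoryTheory.Limits CochainComplex CochainComplex.HomComplex
open scoped ZeroObject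

attribute [local instance] HasDerivedCategory.standard

namespace Groth.Agent.PCNoncomm7
open Groth.Agent

variable {A : Type u} [Ring A] {F : CochainComplex (ModuleCat.{u} A) ℤ}

theorem exactAt_iff_forall (C : CochainComplex (ModuleCat.{u} A) ℤ) (h i j : ℤ) (hi : h + 1 = i)
    (hj : i + 1 = j) : C.ExactAt i ↔ ∀ x : C.X i, C.d i j x = 0 → ∃ y : C.X h, C.d h i y = x := by
  rw [C.exactAt_iff' h i j (by simp; omega) (by simp; omega), ShortComplex.moduleCat_exact_iff]
  rfl

theorem finite_free_of_iso {M N : ModuleCat.{u} A} (e : M ≅ N) (h : Module.Finite A M ∧ Module.Free A M) :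
    Module.Finite A N ∧ Module.Free A N :=
  haveI := h.1
  haveI := h.2
  ⟨Module.Finite.equiv e.toLinearEquiv, Module.Free.of_equiv e.toLinearEquiv⟩

theorem finite_free_of_isZero {M : ModuleCat.{u} A} (h : IsZero M) : Module.Finite A M ∧ Module.Free A M :=
  haveI := ModuleCat.subsingleton_of_isZero h
  ⟨inferInstance, Module.Free.of_subsingleton A M⟩

theorem exists_generators (C : CochainComplex (ModuleCat.{u} A) ℤ) (h i j : ℤ) (hi : h + 1 = i)
    (hj : i + 1 = j) (hfin : Module.Finite A (C.homology i)) :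
    ∃ (k : ℕ) (φ : ModuleCat.of A (Fin k → A) ⟶ C.X i), φ ≫ C.d i j = 0 ∧
      ∀ x : C.X i, C.d i j x = 0 → ∃ (c : Fin k → A) (y : C.X h), x = φ c + C.d h i y := by
  let S := C.sc' h i j
  have e : C.homology i ≅ S.moduleCatLeftHomologyData.H :=
    C.homologyIsoSc' h i j (by simp; omega) (by simp; omega) ≪≫ S.moduleCatHomologyIso
  haveI : Module.Finite A (S.g.hom.ker ⧸ S.moduleCatToCycles.range) :=
    (Module.Finite.equiv_iff e.toLinearEquiv).1 hfin
  obtain ⟨k, p, hp⟩ := Module.Finite.exists_fin' A (S.g.hom.ker ⧸ S.moduleCatToCycles.range)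
  obtain ⟨l, hl⟩ := Module.projective_lifting_property (Submodule.mkQ S.moduleCatToCycles.range) p
    (Submodule.mkQ_surjective _)
  let φ : ModuleCat.of A (Fin k → A) ⟶ C.X i := ModuleCat.ofHom (S.g.hom.ker.subtype ∘ₗ l)
  refine ⟨k, φ, ?_, fun x hx => ?_⟩
  · ext c
    exact (l _).2
  · obtain ⟨c, hc⟩ := hp (Submodule.Quotient.mk ⟨x, hx⟩)
    rw [← hl] at hc
    obtain ⟨y, hy⟩ := (Submodule.Quotient.eq _).1 hc.symm
    have h2 : (C.d h i) y = x - φ c := congrArg Subtype.val hy
    exact ⟨c, y, eq_add_of_sub_eq' h2.symm⟩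

theorem isIso_inr_f {S E : CochainComplex (ModuleCat.{u} A) ℤ} (g : S ⟶ E) (i : ℤ) (h : IsZero (S.X (i + 1))) :
    IsIso ((mappingCone.inr g).f i) :=
  ⟨(mappingCone.snd g).v i i (add_zero i), by simp, by
    have := mappingCone.id_X g i (i + 1) rfl
    rw [← this, h.eq_of_tgt ((mappingCone.fst g).1.v i (i + 1) rfl) 0, zero_comp, zero_add]⟩

variable (F) in
/-- A stage of the construction. -/
structure Stage (b n : ℤ) where
  E : CochainComplex (ModuleCat.{u} A) ℤ
  α : E ⟶ F
  free : ∀ i, Module.Finite A (E.X i) ∧ Module.Free A (E.X i)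
  below : ∀ i, i < n → IsZero (E.X i)
  above : ∀ i, b < i → IsZero (E.X i)
  exact : ∀ i, n ≤ i → (mappingCone α).ExactAt i

theorem exists_next {b n n' : ℤ} (hn' : n' + 1 = n) (hn : n ≤ b + 1) (s : Stage F b n)
    (hfin : Module.Finite A ((mappingCone s.α).homology n')) :
    ∃ (s' : Stage F b n') (ι : s.E ⟶ s'.E), ι ≫ s'.α = s.α ∧ ∀ i, n ≤ i → IsIso (ι.f i) := by
  obtain ⟨n'', hn''⟩ : ∃ n'' : ℤ, n'' + 1 = n' := ⟨n' - 1, by omega⟩
  obtain ⟨k, φ, hφd, hφ⟩ := exists_generators (mappingCone s.α) n'' n' n hn'' hn' hfin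
  let N := ModuleCat.of A (Fin k → A)
  let S := (HomologicalComplex.single (ModuleCat.{u} A) (ComplexShape.up ℤ) n).obj N
  let σ := HomologicalComplex.singleObjXSelf (ComplexShape.up ℤ) n N
  let g : S ⟶ s.E := HomologicalComplex.mkHomFromSingle (-(φ ≫ (mappingCone.fst s.α).1.v n' n hn')) (by
    intro j hj
    obtain rfl : n + 1 = j := hj
    have := φ ≫= mappingCone.d_fst_v s.α n' n (n + 1) hn' rfl
    rw [← Category.assoc, hφd, zero_comp] at this
    simp only [Category.assoc, Preadditive.neg_comp, Preadditive.comp_neg] at this ⊢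
    exact this.symm)
  have hgn : g.f n = σ.hom ≫ (-(φ ≫ (mappingCone.fst s.α).1.v n' n hn')) :=
    HomologicalComplex.mkHomFromSingle_f _ _
  let f : S.X n ⟶ F.X n' := σ.hom ≫ φ ≫ (mappingCone.snd s.α).v n' n' (add_zero n')
  let β : Cochain S F (-1) := Cochain.single f (-1)
  have heq : δ (-1) 0 β = Cochain.ofHom (g ≫ s.α) := by
    have h2 := φ ≫= mappingCone.d_snd_v s.α n' n hn'
    rw [← Category.assoc, hφd, zero_comp, Preadditive.comp_add] at h2
    rw [Cochain.δ_single f (-1) 0 (by omega) n' n hn' hn']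
    refine Cochain.ext₀ _ _ fun p => ?_
    rcases eq_or_ne p n with hp | hp
    · subst hp
      rw [Cochain.add_v, Cochain.units_smul_v, Cochain.single_v,
        Cochain.single_v_eq_zero _ _ p p (add_zero p) (by omega), smul_zero, add_zero, Cochain.ofHom_v,
        HomologicalComplex.comp_f, hgn]
      simp only [f, Category.assoc, Preadditive.neg_comp]
      exact congrArg (σ.hom ≫ ·) (eq_neg_of_add_eq_zero_right h2.symm)
    · exact (HomologicalComplex.isZero_single_obj_X (ComplexShape.up ℤ) n N p hp).eq_of_src _ _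
  let α' := mappingCone.desc g β s.α heq
  let ι := mappingCone.inr g
  have hfac : ι ≫ α' = s.α := mappingCone.inr_desc ..
  have hiso : ∀ i, n ≤ i → IsIso (ι.f i) := fun i hi => isIso_inr_f g i
    (HomologicalComplex.isZero_single_obj_X (ComplexShape.up ℤ) n N (i + 1) (by omega))
  have e : ∀ i, (mappingCone g).X i ≅ ModuleCat.of A (S.X (i + 1) × s.E.X i) := fun i =>
    HomologicalComplex.homotopyCofiber.XIsoBiprod g i (i + 1) rfl ≪≫ ModuleCat.biprodIsoProd _ _
  have hzero : ∀ i, IsZero (S.X (i + 1)) → IsZero (s.E.X i) → IsZero ((mappingCone g).X i) :=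
    fun i h1 h2 => by
      haveI := ModuleCat.subsingleton_of_isZero h1
      haveI := ModuleCat.subsingleton_of_isZero h2
      exact (ModuleCat.isZero_of_subsingleton _).of_iso (e i)
  have hfree : ∀ i, Module.Finite A ((mappingCone g).X i) ∧ Module.Free A ((mappingCone g).X i) := fun i => by
    have h1 : Module.Finite A (S.X (i + 1)) ∧ Module.Free A (S.X (i + 1)) := by
      rcases eq_or_ne (i + 1) n with h | h
      · subst h
        exact finite_free_of_iso σ.symm ⟨inferInstance, inferInstance⟩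
      · exact finite_free_of_isZero
          (HomologicalComplex.isZero_single_obj_X (ComplexShape.up ℤ) n N (i + 1) h)
    haveI := h1.1
    haveI := h1.2
    haveI := (s.free i).1
    haveI := (s.free i).2
    exact finite_free_of_iso (e i).symm ⟨inferInstance, inferInstance⟩
  let θ : mappingCone s.α ⟶ mappingCone α' := mappingCone.map s.α α' ι (𝟙 F) (by rw [hfac, Category.comp_id])
  have hθf : ∀ p q (h : p + 1 = q), θ.f p = (mappingCone.fst s.α).1.v p q h ≫ ι.f q ≫
      (mappingCone.inl α').v q p (by omega) +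
      (mappingCone.snd s.α).v p p (add_zero p) ≫ (mappingCone.inr α').f p := fun p q h => by
    simp [θ, mappingCone.map, mappingCone.desc_f _ _ _ _ p q h]
  have hθ : ∀ i, n' ≤ i → IsIso (θ.f i) := fun i hi => by
    haveI := hiso (i + 1) (by omega)
    refine ⟨(mappingCone.fst α').1.v i (i + 1) rfl ≫ inv (ι.f (i + 1)) ≫
      (mappingCone.inl s.α).v (i + 1) i (by omega) +
      (mappingCone.snd α').v i i (add_zero i) ≫ (mappingCone.inr s.α).f i, ?_, ?_⟩
    · rw [hθf i (i + 1) rfl, ← mappingCone.id_X s.α i (i + 1) rfl]; simp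
    · rw [hθf i (i + 1) rfl, ← mappingCone.id_X α' i (i + 1) rfl]; simp
  have hkill : ∀ c, ∃ y, (mappingCone α').d n'' n' y = θ.f n' (φ c) := by
    have h3 : (σ.inv ≫ (mappingCone.inl g).v n n' (by omega) ≫ (mappingCone.inl α').v n' n'' (by omega)) ≫
        (mappingCone α').d n'' n' = φ ≫ θ.f n' := by
      have hd : S.d n (n + 1) = 0 :=
        (HomologicalComplex.isZero_single_obj_X (ComplexShape.up ℤ) n N (n + 1) (by omega)).eq_of_tgt _ _
      rw [hθf n' n hn', Category.assoc, Category.assoc, mappingCone.inl_v_d α' n' n'' n (by omega) (by omega),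
        Preadditive.comp_sub, mappingCone.inl_v_desc_f_assoc,
        mappingCone.inl_v_d_assoc g n n' (n + 1) (by omega) (by omega)]
      simp [β, f, hgn, hd, Preadditive.comp_add]
      abel
    exact fun c => ⟨_, ConcreteCategory.congr_hom h3 c⟩
  refine ⟨⟨mappingCone g, α', hfree, fun i hi => hzero i
      (HomologicalComplex.isZero_single_obj_X (ComplexShape.up ℤ) n N (i + 1) (by omega)) (s.below i (by omega)),
    fun i hi => hzero i
      (HomologicalComplex.isZero_single_obj_X (ComplexShape.up ℤ) n N (i + 1) (by omega)) (s.above i hi),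
    fun i hi => ?_⟩, ι, hfac, hiso⟩
  rw [exactAt_iff_forall _ (i - 1) i (i + 1) (by omega) rfl]
  intro x hx
  haveI := hθ i hi
  haveI := hθ (i + 1) (by omega)
  obtain ⟨x, rfl⟩ := ((ConcreteCategory.isIso_iff_bijective (θ.f i)).1 inferInstance).2 x
  have hx0 : (mappingCone s.α).d i (i + 1) x = 0 := by
    apply ((ConcreteCategory.isIso_iff_bijective (θ.f (i + 1))).1 inferInstance).1
    rw [map_zero, ← ConcreteCategory.comp_apply, ← θ.comm, ConcreteCategory.comp_apply, hx]
  have hnat : ∀ p q y, (mappingCone α').d p q (θ.f p y) = θ.f q ((mappingCone s.α).d p q y) := fun p q y => by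
    rw [← ConcreteCategory.comp_apply, θ.comm, ConcreteCategory.comp_apply]
  rcases eq_or_lt_of_le hi with h | h
  · subst h
    obtain rfl : n = n' + 1 := hn'.symm
    obtain rfl : n'' = n' - 1 := by omega
    obtain ⟨c, y, hy⟩ := hφ x hx0
    obtain ⟨z, hz⟩ := hkill c
    exact ⟨z + θ.f _ y, by rw [map_add, hz, hnat, hy, map_add]⟩
  · obtain ⟨y, hy⟩ := (exactAt_iff_forall _ (i - 1) i (i + 1) (by omega) rfl).1 (s.exact i (by omega)) x hx0
    exact ⟨θ.f _ y, by rw [hnat, hy]⟩

theorem exists_resolution (b : ℤ) (hb : ∀ i, b < i → F.ExactAt i)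
    (hfin : ∀ (n n' : ℤ) (_ : n' + 1 = n) (s : Stage F b n),
      Module.Finite A ((mappingCone s.α).homology n')) :
    ∃ (E : CochainComplex (ModuleCat.{u} A) ℤ) (α : E ⟶ F), (∀ i, b < i → IsZero (E.X i)) ∧
      (∀ i, Module.Finite A (E.X i) ∧ Module.Free A (E.X i)) ∧ QuasiIso α := by
  have base : Stage F b (b + 1) := by
    have hz : ∀ i, IsZero ((0 : CochainComplex (ModuleCat.{u} A) ℤ).X i) := fun i =>
      (HomologicalComplex.eval _ _ i).map_isZero (isZero_zero _)
    refine ⟨0, 0, fun i => finite_free_of_isZero (hz i),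
      fun i _ => hz i, fun i _ => hz i, fun i hi => ?_⟩
    haveI : ∀ i, IsIso ((mappingCone.inr (0 : (0 : CochainComplex (ModuleCat.{u} A) ℤ) ⟶ F)).f i) :=
      fun i => isIso_inr_f _ i (hz _)
    haveI : IsIso (mappingCone.inr (0 : (0 : CochainComplex (ModuleCat.{u} A) ℤ) ⟶ F)) :=
      HomologicalComplex.Hom.isIso_of_components _
    exact (hb i (by omega)).of_iso (asIso (mappingCone.inr _))
  have hstep : ∀ (k : ℕ) (s : Stage F b (b + 1 - k)), ∃ (s' : Stage F b (b + 1 - (k + 1 : ℕ)))
      (ι : s.E ⟶ s'.E), ι ≫ s'.α = s.α ∧ ∀ i, b + 1 - k ≤ i → IsIso (ι.f i) := fun k s =>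
    exists_next (by push_cast; omega) (by omega) s (hfin _ _ (by push_cast; omega) s)
  choose next nι hfac hiso using hstep
  let st : ∀ k : ℕ, Stage F b (b + 1 - k) := fun k =>
    Nat.rec (motive := fun k => Stage F b (b + 1 - (k : ℕ))) (cast (by simp) base) next k
  let D : ℕ ⥤ CochainComplex (ModuleCat.{u} A) ℤ :=
    Functor.ofSequence (X := fun k => (st k).E) fun k => nι k (st k)
  let c : Cocone D := Cocone.mk F (NatTrans.ofSequence (fun k => (st k).α)
    fun k => (by rw [Functor.ofSequence_map_homOfLE_succ]; exact (hfac k (st k)).trans (Category.comp_id _).symm))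
  have hmap : ∀ (k l : ℕ) (hkl : k ≤ l) (i : ℤ), b + 1 - k ≤ i → IsIso ((D.map (homOfLE hkl)).f i) := by
    intro k l hkl i hi
    induction l, hkl using Nat.le_induction with
    | base => rw [show homOfLE (le_refl k) = 𝟙 k from Subsingleton.elim _ _, D.map_id]; exact inferInstanceAs (IsIso (𝟙 _))
    | succ l hkl ih =>
      rw [show homOfLE (hkl.trans (Nat.le_succ l)) = homOfLE hkl ≫ homOfLE (Nat.le_succ l) from Subsingleton.elim _ _,
        D.map_comp, HomologicalComplex.comp_f]
      haveI := ih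
      haveI : IsIso ((D.map (homOfLE (Nat.le_succ l))).f i) := by
        rw [Functor.ofSequence_map_homOfLE_succ]; exact hiso l (st l) i (by omega)
      infer_instance
  have hι : ∀ (k : ℕ) (i : ℤ), b + 1 - k ≤ i → IsIso ((colimit.ι D k).f i) := fun k i hi => by
    have h : (D ⋙ HomologicalComplex.eval _ _ i).IsEventuallyConstantFrom k := fun l f =>
      hmap k l (leOfHom f) i hi
    exact h.isIso_ι_of_isColimit (isColimitOfPreserves (HomologicalComplex.eval _ _ i) (colimit.isColimit D))
  let E := colimit D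
  have hk : ∀ i : ℤ, ∃ k : ℕ, b + 1 - k < i - 1 := fun i => ⟨(b + 3 - i).toNat, by omega⟩
  refine ⟨E, colimit.desc D c, fun i hi => ?_, fun i => ?_, ⟨fun i => ?_⟩⟩
  · haveI := hι 0 i (by omega)
    exact ((st 0).above i hi).of_iso (asIso ((colimit.ι D 0).f i)).symm
  · obtain ⟨k, hk⟩ := hk i
    haveI := hι k i (by omega)
    exact finite_free_of_iso (asIso ((colimit.ι D k).f i)) ((st k).free i)
  · obtain ⟨k, hk⟩ := hk i
    haveI : QuasiIsoAt (colimit.ι D k) i := by
      rw [quasiIsoAt_iff' _ (i - 1) i (i + 1) (by simp) (by simp)]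
      let ψ := (HomologicalComplex.shortComplexFunctor' (ModuleCat.{u} A) (ComplexShape.up ℤ) (i - 1) i (i + 1)).map
        (colimit.ι D k)
      haveI : IsIso ψ.τ₁ := hι k (i - 1) (by omega)
      haveI : IsIso ψ.τ₂ := hι k i (by omega)
      haveI : IsIso ψ.τ₃ := hι k (i + 1) (by omega)
      exact ShortComplex.quasiIso_of_epi_of_isIso_of_mono ψ
    have h1 : IsIso ((DerivedCategory.homologyFunctor _ i).map (DerivedCategory.Q.map (st k).α)) :=
      ((KFlatLib.isPcMap_iff_cone (b + 1 - k) (st k).α).2 fun j hj =>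
        ((st k).exact j hj).isZero_homology).1 i (by omega)
    haveI : QuasiIsoAt (colimit.ι D k ≫ colimit.desc D c) i := by
      rw [colimit.ι_desc, quasiIsoAt_iff_isIso_homologyMap]
      exact (NatIso.isIso_map_iff (DerivedCategory.homologyFunctorFactors (ModuleCat.{u} A) i) (st k).α).1 h1
    exact quasiIsoAt_of_comp_left (colimit.ι D k) _ i

end Groth.Agent.PCNoncomm7
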